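import Cfsg.Agent.PiClassHall7.Count
import Cfsg.Agent.PiClassHall7.Degree
import Cfsg.Agent.S3898

/-!
More than `|G|_π / s` classes of `π`-elements, with `s` at most every prime of `π`, give a Hall
`π`-subgroup meeting every class and having many classes itself.
-/

set_option autoImplicit false

open Subgroup
open CfsgLib.ClassCount

namespace CfsgLib.PiClassHall7

universe u

variable {G : Type u} [Group G] [Finite G]

/-- An element whose order has no prime divisor is trivial. -/
theorem eq_one_of_isPiEl_empty {x : G} (hx : IsPiEl ((∅ : Finset ℕ) : Set ℕ) x) : x = 1 := by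
  by_contra h
  obtain ⟨q, hq, hd⟩ := Nat.exists_prime_and_dvd (fun h' => h (orderOf_eq_one_iff.mp h'))
  exact Finset.notMem_empty q (Finset.mem_coe.mp (hx q hq hd))

/-- Burnside's criterion for every prime of an abelian Hall subgroup central in its normaliser. -/
theorem sylow_central_of_hall_central {σ : Finset ℕ} (hσ : ∀ q ∈ σ, q.Prime) {H0 : Subgroup G}
    (hcard : Nat.card H0 = part σ (Nat.card G)) (hcomm : IsMulCommutative H0)
    (hN : normalizer (H0 : Set G) ≤ centralizer (H0 : Set G)) {q : ℕ} [hq : Fact q.Prime]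
    (hqσ : q ∈ σ) :
    Cfsg.HasNormalPComplement q G ∧ ∀ R : Sylow q G, IsMulCommutative (R : Subgroup G) := by
  obtain ⟨R₀⟩ : Nonempty (Sylow q H0) := inferInstance
  have hRc : Nat.card ((R₀ : Subgroup H0).map H0.subtype) =
      q ^ (Nat.card G).factorization q := by
    rw [Subgroup.card_map_of_injective H0.subtype_injective, R₀.card_eq_multiplicity, hcard,
      factorization_part hσ hqσ]
  let R : Sylow q G := Sylow.ofCard _ hRc
  have hRle : (R : Subgroup G) ≤ H0 := Subgroup.map_subtype_le _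
  have hRcomm : IsMulCommutative (R : Subgroup G) :=
    ⟨⟨fun a b => Subtype.ext (congrArg (fun z : H0 => (z : G))
      (hcomm.is_comm.comm ⟨a, hRle a.2⟩ ⟨b, hRle b.2⟩))⟩⟩
  have hH0R : H0 ≤ centralizer ((R : Subgroup G) : Set G) := fun h hh =>
    mem_centralizer_iff.mpr fun r hr =>
      congrArg Subtype.val (hcomm.is_comm.comm ⟨r, hRle hr⟩ ⟨h, hh⟩)
  refine ⟨hasNormalPComplement_of_central R fun v hv => ?_, fun S => ?_⟩
  · have hvH : H0.map (MulAut.conj v).toMonoidHom ≤ centralizer ((R : Subgroup G) : Set G) := by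
      rintro _ ⟨h, hh, rfl⟩
      have := mem_centralizer_conj (g := v) (hH0R hh)
      rw [CfsgLib.Coprime.map_conj_eq_of_mem_normalizer hv] at this
      exact this
    obtain ⟨c, hc, hcv⟩ := exists_conj_eq hH0R hvH (isNilpotent_of_isMulCommutative hcomm)
      (coprime_card_index hσ hcard) (Subgroup.card_map_of_injective (MulAut.conj v).injective)
    have hmem : c⁻¹ * v ∈ normalizer (H0 : Set G) := by
      rw [mem_normalizer_iff_map_conj_eq]
      change H0.map (MulAut.conj (c⁻¹ * v)).toMonoidHom = H0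
      rw [← CfsgLib.Coprime.map_conj_map_conj, ← hcv,
        CfsgLib.Coprime.map_conj_map_conj, inv_mul_cancel, CfsgLib.Coprime.map_conj_one]
    have h1 : c⁻¹ * v ∈ centralizer ((R : Subgroup G) : Set G) :=
      Subgroup.centralizer_le (SetLike.coe_subset_coe.mpr hRle) (hN hmem)
    simpa using mul_mem hc h1
  · obtain ⟨g, rfl⟩ := MulAction.exists_smul_eq G R S
    have hc := isMulCommutative_map hRcomm g
    have e : ((g • R : Sylow q G) : Subgroup G) =
        (R : Subgroup G).map (MulAut.conj g).toMonoidHom := by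
      rw [Sylow.coe_subgroup_smul]; rfl
    rwa [e]

/-- The odd case. -/
theorem exists_hall_odd (π : Finset ℕ) : (∀ q ∈ π, q.Prime ∧ q ≠ 2) →
    ∀ (G : Type u) [Group G] [Finite G] (s : ℕ), (∀ q ∈ π, s ≤ q) →
      part π (Nat.card G) < s * Nat.card (PiClasses (π : Set ℕ) G) →
      ∃ H : Subgroup G, Nat.card H = part π (Nat.card G) ∧
        (∀ g : G, IsPiEl (π : Set ℕ) g → ∃ h ∈ H, IsConj g h) ∧
        Nat.card (PiClasses (π : Set ℕ) G) ≤ Nat.card (ConjClasses H) := by
  induction π using Finset.strongInduction with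
  | H π ih =>
  intro hπ G _ _ s hs hk
  suffices h : ∃ H : Subgroup G, Nat.card H = part π (Nat.card G) ∧
      ∀ g : G, IsPiEl (π : Set ℕ) g → ∃ h ∈ H, IsConj g h by
    obtain ⟨H, h1, h2⟩ := h
    exact ⟨H, h1, h2, card_piClasses_le_card_classes h2⟩
  by_cases hπ0 : π = ∅
  · subst hπ0
    exact ⟨⊥, by simp [part], fun g hg =>
      ⟨1, one_mem _, by rw [eq_one_of_isPiEl_empty hg]⟩⟩
  have hne : π.Nonempty := Finset.nonempty_iff_ne_empty.mpr hπ0
  obtain ⟨p, hpmem, hmin⟩ : ∃ p ∈ π, ∀ q ∈ π, p ≤ q :=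
    ⟨π.min' hne, π.min'_mem hne, fun q hq => π.min'_le q hq⟩
  haveI hp : Fact p.Prime := ⟨(hπ p hpmem).1⟩
  have hp2 : p ≠ 2 := (hπ p hpmem).2
  obtain ⟨σ, hpσ, rfl⟩ : ∃ σ, p ∉ σ ∧ π = insert p σ :=
    ⟨π.erase p, Finset.notMem_erase p π, (Finset.insert_erase hpmem).symm⟩
  have hσ : ∀ q ∈ σ, q.Prime := fun q hq => (hπ q (Finset.mem_insert_of_mem hq)).1
  have hlt : ∀ q ∈ σ, p < q := fun q hq => lt_of_le_of_ne (hmin q (Finset.mem_insert_of_mem hq))
    fun e => hpσ (e ▸ hq)
  have hgap : ∀ q ∈ σ, p + 2 ≤ q := fun q hq => by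
    have h1 := hlt q hq
    have h2 := (hσ q hq).odd_of_ne_two (hπ q (Finset.mem_insert_of_mem hq)).2
    have h3 := hp.out.odd_of_ne_two hp2
    obtain ⟨a, ha⟩ := h2
    obtain ⟨b, hb⟩ := h3
    omega
  have hss : σ ⊂ insert p σ := Finset.ssubset_insert hpσ
  have hσodd : ∀ q ∈ σ, q.Prime ∧ q ≠ 2 := fun q hq => hπ q (Finset.mem_insert_of_mem hq)
  have hkp : part (insert p σ) (Nat.card G) <
      p * Nat.card (PiClasses ((insert p σ : Finset ℕ) : Set ℕ) G) :=
    lt_of_lt_of_le hk (Nat.mul_le_mul_right _ (hs p (Finset.mem_insert_self _ _)))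
  have hpart : part (insert p σ) (Nat.card G) =
      p ^ (Nat.card G).factorization p * part σ (Nat.card G) := Finset.prod_insert hpσ
  -- the Hall `σ`-subgroup
  have hkσ : part σ (Nat.card G) < p * Nat.card (PiClasses (σ : Set ℕ) G) := by
    haveI : Fintype (PiClasses (σ : Set ℕ) G) := Fintype.ofFinite _
    choose rep hrep using fun c : PiClasses (σ : Set ℕ) G => ConjClasses.mk_surjective c.1
    have h := card_piClasses_le_sum (π := ((insert p σ : Finset ℕ) : Set ℕ)) (split_sigma hpσ)
      rep hrep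
    refine Nat.lt_of_mul_lt_mul_left (a := p ^ (Nat.card G).factorization p) ?_
    rw [← hpart]
    refine lt_of_lt_of_le hkp ((Nat.mul_le_mul_left p (h.trans (Finset.sum_le_card_nsmul _ _
      (p ^ (Nat.card G).factorization p) fun c _ => ?_))).trans_eq ?_)
    · have P : Sylow p ↥(centralizer ({rep c} : Set G)) := default
      refine ((card_piClasses_singleton_le P).trans P.card_eq_multiplicity.le).trans
        (Nat.pow_le_pow_right hp.out.pos ?_)
      exact (Nat.factorization_le_iff_dvd Nat.card_pos.ne' Nat.card_pos.ne').mpr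
        (Subgroup.card_subgroup_dvd_card _) p
    · rw [Finset.card_univ, ← Nat.card_eq_fintype_card, smul_eq_mul]
      ring
  obtain ⟨H0, hcard, hcov, hkH⟩ := ih σ hss hσodd G p (fun q hq => (hlt q hq).le) hkσ
  have hcomm : IsMulCommutative H0 :=
    commutative_of_many p (fun q hq hd => hlt q (prime_mem_of_dvd_part hσ hq (hcard ▸ hd)))
      (hcard ▸ lt_of_lt_of_le hkσ (Nat.mul_le_mul_left p hkH))
  obtain ⟨T⟩ : Nonempty (Sylow p ↥(centralizer (H0 : Set G))) := inferInstance
  by_cases hTP : Nat.card (T : Subgroup ↥(centralizer (H0 : Set G))) =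
      p ^ (Nat.card G).factorization p
  · exact exists_of_centralizes hσ hpσ hcard hcov
      (Sylow.ofCard ((T : Subgroup ↥(centralizer (H0 : Set G))).map
        (centralizer (H0 : Set G)).subtype)
        (by rw [Subgroup.card_map_of_injective (Subgroup.subtype_injective _)]; exact hTP))
      (Subgroup.map_subtype_le _)
  by_cases hN : normalizer (H0 : Set G) ≤ centralizer (H0 : Set G)
  · have key : ∀ q ∈ σ, Cfsg.HasNormalPComplement q G ∧
        ∀ R : Sylow q G, IsMulCommutative (R : Subgroup G) := fun q hq =>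
      haveI := Fact.mk (hσ q hq)
      sylow_central_of_hall_central hσ hcard hcomm hN hq
    obtain ⟨M, hM, h1, h2, -⟩ := exists_pi_complement σ hσ (fun q hq => (key q hq).1)
      (fun q hq => (key q hq).2)
    haveI := hM
    exact exists_of_sigma_complement hσ hpσ hcard hcomm hcov M h1 h2
  obtain ⟨P⟩ : Nonempty (Sylow p G) := inferInstance
  by_cases hP : Cfsg.HasNormalPComplement p G ∧ IsMulCommutative (P : Subgroup G)
  · obtain ⟨M, -, hM, h1, h2, -⟩ := exists_normal_of_hasNormalPComplement hP.1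
    haveI := hM
    exact exists_of_prime_complement hσ hpσ hcard hcomm hcov P hP.2 M h1 h2
  exfalso
  have hK : 2 * p * Nat.card (PiClasses ({p} : Set ℕ) G) ≤
      (p + 1) * p ^ (Nat.card G).factorization p := by
    by_contra h
    refine hP (complement_of_many_classes P hp2 ?_)
    rw [P.card_eq_multiplicity]
    exact not_le.mp h
  have hT : p * Nat.card (T : Subgroup ↥(centralizer (H0 : Set G))) ≤
      p ^ (Nat.card G).factorization p := by
    rw [T.card_eq_multiplicity] at hTP ⊢
    have hle : (Nat.card ↥(centralizer (H0 : Set G))).factorization p ≤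
        (Nat.card G).factorization p :=
      (Nat.factorization_le_iff_dvd Nat.card_pos.ne' Nat.card_pos.ne').mpr
        (Subgroup.card_subgroup_dvd_card _) p
    rw [mul_comm, ← pow_succ]
    exact Nat.pow_le_pow_right hp.out.pos (lt_of_le_of_ne hle fun e => hTP (by rw [e]))
  refine absurd (classes_le_of_not_central hσ hpσ hgap hcard hcomm hN T hT hK fun x hx => ?_)
    (not_le.mpr hkp)
  set Cx := centralizer ({x} : Set G)
  by_cases heq : part σ (Nat.card Cx) = part σ (Nat.card G)
  · obtain ⟨K, hK1, -, -⟩ := ih σ hss hσodd Cx (p + 1) (fun q hq => by have := hgap q hq; omega)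
      (by rw [heq, ← hcard]; exact hx)
    exact ⟨K.map Cx.subtype, Subgroup.map_subtype_le _, by
      rw [Subgroup.card_map_of_injective Cx.subtype_injective, hK1, heq, hcard]⟩
  · exfalso
    have h1 : (p + 2) * part σ (Nat.card Cx) ≤ part σ (Nat.card G) :=
      prime_mul_le hσ hgap rfl
        (dvd_part_of_dvd Nat.card_pos.ne' (Subgroup.card_subgroup_dvd_card _)) heq
    have h2 : Nat.card (PiClasses (σ : Set ℕ) Cx) ≤ part σ (Nat.card Cx) :=
      card_piClasses_le σ hσ Cx
    have h3 := Nat.mul_le_mul_left (p + 1) h2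
    have h4 : (p + 1) * part σ (Nat.card Cx) ≤ (p + 2) * part σ (Nat.card Cx) :=
      Nat.mul_le_mul_right _ (Nat.le_succ _)
    omega

/-- A complement of a normal subgroup of coprime index meets every class of elements of order
prime to the subgroup. -/
theorem cover_of_complement (N H : Subgroup G) [N.Normal] (hc : IsComplement' N H) {x : G}
    (hcop : (orderOf x).Coprime (Nat.card N)) : ∃ h ∈ H, IsConj x h := by
  let Y : Subgroup G := zpowers x ⊔ N
  have hAn : ∀ A : Subgroup G, A ≤ normalizer (N : Set G) := fun A => by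
    rw [normalizer_eq_top N]; exact le_top
  have hker : ∀ w ∈ Y, QuotientGroup.mk' N w ∈ (zpowers x).map (QuotientGroup.mk' N) := by
    intro w hw
    have : w ∈ ((zpowers x).map (QuotientGroup.mk' N)).comap (QuotientGroup.mk' N) := by
      rw [Subgroup.comap_map_eq, QuotientGroup.ker_mk']
      exact hw
    exact this
  have hsol : Group.IsSolvable (H ⊓ Y : Subgroup G) := by
    refine Group.isSolvable_of_comm fun a b => Subtype.ext ?_
    obtain ⟨_, ⟨i, rfl⟩, hi⟩ := hker a (mem_inf.mp a.2).2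
    obtain ⟨_, ⟨j, rfl⟩, hj⟩ := hker b (mem_inf.mp b.2).2
    have hab : QuotientGroup.mk' N ((a : G) * b) = QuotientGroup.mk' N ((b : G) * a) := by
      rw [map_mul, map_mul, ← hi, ← hj, ← map_mul, ← map_mul, ((Commute.refl x).zpow_zpow i j).eq]
    have h1 : ((a : G) * b)⁻¹ * (b * a) ∈ N := QuotientGroup.eq.mp hab
    have h2 : ((a : G) * b)⁻¹ * (b * a) ∈ H :=
      mul_mem (inv_mem (mul_mem (mem_inf.mp a.2).1 (mem_inf.mp b.2).1))
        (mul_mem (mem_inf.mp b.2).1 (mem_inf.mp a.2).1)
    exact inv_mul_eq_one.mp (hc.disjoint.le_bot (mem_inf.mpr ⟨h1, h2⟩))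
  obtain ⟨g, hg, hle⟩ := CfsgLib.Coprime.exists_conj_le_of_coprime (A := H ⊓ Y) (G := N)
    (B := zpowers x) (hAn _) (by rw [Nat.card_zpowers]; exact hcop) (.inl hsol) (by
      rw [zpowers_le]
      obtain ⟨⟨n, h⟩, hnh⟩ := hc.2 x
      have hh : (h : G) ∈ Y := by
        have he : (n : G)⁻¹ * x = h := by rw [← hnh]; exact inv_mul_cancel_left _ _
        rw [← he]
        exact mul_mem (mem_sup_right (inv_mem n.2)) (mem_sup_left (mem_zpowers x))
      rw [← hnh]
      exact mul_mem (mem_sup_right n.2) (mem_sup_left (mem_inf.mpr ⟨h.2, hh⟩)))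
  obtain ⟨w, hw, hwx⟩ := hle (mem_zpowers x)
  exact ⟨w, (mem_inf.mp hw).1, (isConj_iff.mpr ⟨g, hwx⟩).symm⟩

/-- More than `|G|_π / s` classes of `π`-elements, `s` at most every member of `π`. -/
theorem exists_hall (π : Finset ℕ) (hπ : ∀ q ∈ π, q.Prime) (G : Type u) [Group G] [Finite G]
    (s : ℕ) (hs : ∀ q ∈ π, s ≤ q)
    (hk : part π (Nat.card G) < s * Nat.card (PiClasses (π : Set ℕ) G)) :
    ∃ H : Subgroup G, Nat.card H = part π (Nat.card G) ∧
      Nat.card (PiClasses (π : Set ℕ) G) ≤ Nat.card (ConjClasses H) := by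
  by_cases h2 : 2 ∈ π
  · have hk2 : part π (Nat.card G) < 2 * Nat.card (PiClasses (π : Set ℕ) G) :=
      lt_of_lt_of_le hk (Nat.mul_le_mul_right _ (hs 2 h2))
    obtain ⟨⟨N, hN, h1, h2'⟩, -⟩ := Cfsg.Agent.S3898.result (G := G) π hπ h2 hk2
    haveI := hN
    have hcop : (Nat.card N).Coprime N.index :=
      Nat.coprime_of_dvd fun q hq d1 d2 => h1 q hq d1 (h2' q hq d2)
    obtain ⟨H, hH⟩ := exists_right_complement'_of_coprime hcop
    refine ⟨H, ?_, card_piClasses_le_card_classes fun g hg => cover_of_complement N H hH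
      (Nat.coprime_of_dvd fun q hq d1 d2 => h1 q hq d2 (hg q hq d1))⟩
    have hdvd : Nat.card H ∣ part π (Nat.card G) ∧ part π (Nat.card G) ∣ Nat.card H := by
      have hmul := N.card_mul_index
      rw [hH.symm.index_eq_card] at hmul
      constructor
      · refine (Nat.Coprime.dvd_of_dvd_mul_right (n := Nat.card G / part π (Nat.card G))
          (Nat.coprime_of_dvd fun q hq d1 d2 =>
            not_dvd_div_part hπ Nat.card_pos.ne' (h2' q hq (hH.symm.index_eq_card ▸ d1)) d2) ?_)
        rw [Nat.mul_div_cancel' (part_dvd hπ)]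
        exact Subgroup.card_subgroup_dvd_card H
      · refine (Nat.Coprime.dvd_of_dvd_mul_left (m := Nat.card N)
          (Nat.coprime_of_dvd fun q hq d1 d2 => h1 q hq d2 (prime_mem_of_dvd_part hπ hq d1)) ?_)
        rw [hmul]
        exact part_dvd hπ
    exact Nat.dvd_antisymm hdvd.1 hdvd.2
  · obtain ⟨H, h, -, h'⟩ := exists_hall_odd π (fun q hq => ⟨hπ q hq, fun e => h2 (e ▸ hq)⟩)
      G s hs hk
    exact ⟨H, h, h'⟩

end CfsgLib.PiClassHall7
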