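import Cfsg.Agent.PiClassHall7.Main

/-!
Translation from a set of primes and a Hall number to the finite set of relevant primes.
-/

set_option autoImplicit false

open CfsgLib.ClassCount

namespace CfsgLib.PiClassHall7

universe u

theorem exists_finset_data {G : Type u} [Group G] [Finite G] (π : Set ℕ)
    (hπ : ∀ q ∈ π, q.Prime) (p : ℕ) (hmin : ∀ q ∈ π, p ≤ q) (m : ℕ) (hm : m ∣ Nat.card G)
    (hmπ : ∀ q : ℕ, q.Prime → q ∣ m → q ∈ π) (hm' : ∀ q ∈ π, ¬ q ∣ Nat.card G / m) :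
    ∃ π₀ : Finset ℕ, (∀ q ∈ π₀, q.Prime ∧ p ≤ q) ∧ part π₀ (Nat.card G) = m ∧
      Nat.card {C : ConjClasses G // ∀ q : ℕ, q.Prime →
        (∃ g : G, ConjClasses.mk g = C ∧ q ∣ orderOf g) → q ∈ π} =
        Nat.card (PiClasses (π₀ : Set ℕ) G) := by
  classical
  let π₀ : Finset ℕ := (Nat.card G).primeFactors.filter (· ∈ π)
  have h0 : ∀ q, q ∈ π₀ ↔ (q.Prime ∧ q ∣ Nat.card G ∧ Nat.card G ≠ 0) ∧ q ∈ π := fun q => by
    simp only [π₀, Finset.mem_filter, Nat.mem_primeFactors]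
  have hprime : ∀ q ∈ π₀, q.Prime := fun q hq => ((h0 q).mp hq).1.1
  refine ⟨π₀, fun q hq => ⟨hprime q hq, hmin q ((h0 q).mp hq).2⟩, ?_, ?_⟩
  · apply Nat.dvd_antisymm
    · refine Nat.Coprime.dvd_of_dvd_mul_right (n := Nat.card G / m)
        (Nat.coprime_of_dvd fun q hq d1 d2 =>
          hm' q ((h0 q).mp (prime_mem_of_dvd_part hprime hq d1)).2 d2) ?_
      rw [Nat.mul_div_cancel' hm]
      exact part_dvd hprime
    · refine Nat.Coprime.dvd_of_dvd_mul_right (n := Nat.card G / part π₀ (Nat.card G))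
        (Nat.coprime_of_dvd fun q hq d1 d2 => not_dvd_div_part hprime Nat.card_pos.ne'
          ((h0 q).mpr ⟨⟨hq, d1.trans hm, Nat.card_pos.ne'⟩, hmπ q hq d1⟩) d2) ?_
      rw [Nat.mul_div_cancel' (part_dvd hprime)]
      exact hm
  · refine Nat.card_congr (Equiv.subtypeEquivRight fun C => ⟨fun h x hx q hq hd => ?_, ?_⟩)
    · exact Finset.mem_coe.mpr ((h0 q).mpr
        ⟨⟨hq, hd.trans (orderOf_dvd_natCard x), Nat.card_pos.ne'⟩,
          h q hq ⟨x, ConjClasses.mem_carrier_iff_mk_eq.mp hx, hd⟩⟩)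
    · rintro h q hq ⟨g, hg, hd⟩
      exact ((h0 q).mp (Finset.mem_coe.mp (h g (ConjClasses.mem_carrier_iff_mk_eq.mpr hg) q hq hd))).2

end CfsgLib.PiClassHall7
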